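import Cfsg.Agent.CyclicOdd.Spor.Tools
import Cfsg.Agent.Known.TitsMult
import Cfsg.Prelude.Def_LieTwisted

/-!
The Tits group contains two commuting elements of order five that generate a group of order 25.
-/

set_option autoImplicit false
set_option linter.style.haveILetI false
set_option maxRecDepth 20000
set_option Elab.async false

namespace Cfsg.Lib.CyclicOdd

open Cfsg.Lie Cfsg.Lib.Chev Cfsg.Lib.Chev.ReeF Cfsg.Lib.TitsMult
open Cfsg.Lib.Schur.Prime (val)

theorem bad_tits_aux (X : RF (ZMod 2)) : Bad ↥(commutator ↥X.G1) := by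
  haveI : Finite ↥X.G1 := Subtype.finite
  set x : ℕ → ↥(commutator ↥X.G1) := fun k => el X (pcw5.getD k []) with hx
  have hc := count5
  simp only [countS, Bool.and_eq_true, decide_eq_true_eq] at hc
  obtain ⟨⟨⟨⟨hok, -⟩, hidx⟩, hsum⟩, hlev⟩ := hc
  simp only [List.all_eq_true, decide_eq_true_eq] at hidx
  have hr : ∀ j < 2, ∀ i ≤ j, val x (cert5.lhs j i) = val x (cert5.tail j i) := fun j hj i hi => by
    refine mat_inj X ?_
    rw [hx, mat_val X hok, mat_val X hok]
    exact sameW_sound (List.all_eq_true.1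
      (List.all_eq_true.1 rules5 j (List.mem_range'_1.2 ⟨Nat.zero_le _, by simpa using hj⟩))
      i (List.mem_range.2 (by omega)))
  have h0 : x 0 ^ 5 = 1 := by
    have h := hr 0 (by omega) 0 le_rfl
    simpa [Cfsg.Lib.Schur.Prime.Cert.lhs, Cfsg.Lib.Schur.Prime.Cert.tail, cert5, val, List.prod_replicate,
      List.replicate, pow_succ, mul_assoc] using h
  have h1 : x 1 ^ 5 = 1 := by
    have h := hr 1 (by omega) 1 le_rfl
    simpa [Cfsg.Lib.Schur.Prime.Cert.lhs, Cfsg.Lib.Schur.Prime.Cert.tail, cert5, val, List.prod_replicate,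
      List.replicate, pow_succ, mul_assoc] using h
  have h01 : Commute (x 1) (x 0) := by
    have h := hr 1 (by omega) 0 (by omega)
    simpa [Commute, SemiconjBy, Cfsg.Lib.Schur.Prime.Cert.lhs, Cfsg.Lib.Schur.Prime.Cert.tail, cert5, val] using h
  refine bad_of_pair_card (p := 5) (by norm_num) (by norm_num) h01.symm h0 h1 ?_
  have hlow := card_bound X 5 2 pcw5 levels5 hok hidx hsum hlev
  have hs : (x '' {i | i < 2}) = {x 0, x 1} := by
    rw [show ({i | i < 2} : Set ℕ) = {0, 1} by ext; simp; omega, Set.image_pair]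
  rw [← hs]
  exact lt_of_lt_of_le (by norm_num) hlow

theorem bad_Tits : Bad Cfsg.Lie.TitsGroup := by
  obtain ⟨X, hX⟩ := Cfsg.Lib.Chev.ReeF.exists_rf (K := ZMod 2) (m := 0) (ZMod.card 2)
  have key : ∀ e, X.e = e → Bad ↥(commutator ↥(Cfsg.Lie.twistedF4 (ZMod 2) e)) := by
    intro e he
    subst he
    exact bad_tits_aux X
  exact key 1 (by simp [Cfsg.Lib.Chev.ReeF.RF.e, hX])

theorem false_of_bad {T : Type} [Group T] (hT : Bad T) {S : Type*} [Group S]
    (hc : ∀ p : ℕ, p.Prime → p ≠ 2 → ∀ P : Sylow p S, IsCyclic P) (e : S ≃* T) : False :=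
  (hT.of_equiv e.symm).false hc

/-- The Tits group has a non-cyclic Sylow subgroup for the prime five. -/
theorem not_tits {S : Type*} [Group S] (hc : ∀ p : ℕ, p.Prime → p ≠ 2 → ∀ P : Sylow p S, IsCyclic P)
    (h : Cfsg.Lie.IsoTits S) : False :=
  h.elim fun e => false_of_bad bad_Tits hc e

end Cfsg.Lib.CyclicOdd
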