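import Cfsg.Agent.CyclicOdd.Spor.Tools
import Cfsg.Agent.QTKE.Uniq.BMRank
import Cfsg.Prelude.Def_Spor_Fi23
import Cfsg.Prelude.Def_Spor_B
import Cfsg.Prelude.Def_Spor_M

/-!
The Fischer group on 31671 points, the Baby Monster and the Monster from their Coxeter diagrams.
-/

set_option autoImplicit false

namespace Cfsg.Lib.CyclicOdd

open Cfsg Cfsg.Spor

theorem bad_of_threeDihedral {X : Type*} [Group X] [Finite X] (h : Cfsg.Lib.QTUniq.HasThreeDihedral X) : Bad X := by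
  obtain ⟨x, a, h1, h2, -, h4, h5, h6, -⟩ := h
  exact bad_of_inverted Nat.prime_three (by norm_num) (a := a 0) (h5 0 1) (h1 0) (h1 1) (h2 0) (h2 1) (h4 0)
    (h6 0 1 (by decide))

theorem bad_B [Finite Spor.BabyMonster] (h : ¬ IsMulCommutative Spor.BabyMonster) : Bad Spor.BabyMonster :=
  bad_of_threeDihedral (Cfsg.Lib.QTUniq.hasThree_baby h)

theorem bad_M [Finite Spor.Monster] (h : ¬ IsMulCommutative Spor.Monster) : Bad Spor.Monster :=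
  bad_of_threeDihedral (Cfsg.Lib.QTUniq.hasThree_monster h)

section Fi23

open Cfsg.Lib.QTUniq Cfsg.Spor.Fi23

theorem fi23_node : ∀ x : Gen, x ∈ coxNodes edges := by intro x; cases x <;> decide

local notation "⟪" x "⟫" => Cox.g edges extra x

theorem fi23_spread {p q r : Gen} (h : ⟪p⟫ = ⟪q⟫) (h2 : coxLabel edges p r = 2 := by decide)
    (h3 : coxLabel edges q r = 3 := by decide) : ⟪r⟫ = ⟪q⟫ :=
  Cox.spread edges extra (fi23_node p) (fi23_node q) (fi23_node r) h2 h3 h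

theorem fi23_collapse (h : ⟪.c⟫ = ⟪.d⟫) : ∀ x, ⟪x⟫ = ⟪Gen.d⟫ := by
  have eb : ⟪.b⟫ = ⟪.c⟫ := fi23_spread h.symm
  have ea : ⟪.a⟫ = ⟪.b⟫ := fi23_spread eb.symm
  have ee : ⟪.e⟫ = ⟪.d⟫ := fi23_spread h
  have eh : ⟪.h⟫ = ⟪.d⟫ := fi23_spread h
  have ef : ⟪.f⟫ = ⟪.e⟫ := fi23_spread ee.symm
  have eg : ⟪.g⟫ = ⟪.f⟫ := fi23_spread ef.symm
  have ej : ⟪.j⟫ = ⟪.g⟫ := fi23_spread eg.symm
  have ei : ⟪.i⟫ = ⟪.h⟫ := fi23_spread eh.symm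
  intro x
  cases x <;> simp [h, eb, ea, ee, eh, ef, eg, ej, ei]

theorem fi23_ab (h : ⟪.a⟫ = ⟪.b⟫) : ∀ x, ⟪x⟫ = ⟪Gen.d⟫ :=
  fi23_collapse (by
    have ec : ⟪.c⟫ = ⟪.b⟫ := fi23_spread h
    have ed : ⟪.d⟫ = ⟪.c⟫ := fi23_spread ec.symm
    exact ed.symm)

theorem fi23_ef (h : ⟪.e⟫ = ⟪.f⟫) : ∀ x, ⟪x⟫ = ⟪Gen.d⟫ :=
  fi23_collapse (by
    have ed : ⟪.d⟫ = ⟪.e⟫ := fi23_spread h.symm
    have ec : ⟪.c⟫ = ⟪.d⟫ := fi23_spread ed.symm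
    exact ec)

theorem bad_Fi23 [Finite Spor.Fi23] (h : ¬ IsMulCommutative Spor.Fi23) : Bad Spor.Fi23 := by
  have hno : ∀ t, ¬ ∀ x, ⟪x⟫ = t := fun t ht => h ⟨⟨Cox.all_comm edges extra ht⟩⟩
  have ne_one : ∀ {p q : Gen}, (⟪p⟫ = ⟪q⟫ → ∀ x, ⟪x⟫ = ⟪Gen.d⟫) → ⟪p⟫ * ⟪q⟫ ≠ 1 := fun hc h1 =>
    hno _ (hc (by rw [eq_inv_of_mul_eq_one_left h1, Cox.inv_eq edges extra (fi23_node _)]))
  have cm : ∀ p q, coxLabel edges p q = 2 → Commute ⟪p⟫ ⟪q⟫ := fun p q h =>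
    Cox.comm edges extra (fi23_node p) (fi23_node q) h
  refine bad_of_inverted Nat.prime_three (by norm_num) (a := ⟪.a⟫) (x := ⟪.a⟫ * ⟪.b⟫) (y := ⟪.e⟫ * ⟪.f⟫) ?_
    (Cox.cube edges extra (fi23_node _) (fi23_node _) (by decide))
    (Cox.cube edges extra (fi23_node _) (fi23_node _) (by decide))
    (ne_one fi23_ab) (ne_one fi23_ef) (Cox.inverts edges extra (fi23_node _) (fi23_node _))
    ((cm _ _ (by decide)).mul_right (cm _ _ (by decide)))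
  exact ((cm _ _ (by decide)).mul_right (cm _ _ (by decide))).mul_left
    ((cm _ _ (by decide)).mul_right (cm _ _ (by decide)))

end Fi23

end Cfsg.Lib.CyclicOdd
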