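import Cfsg.Agent.CyclicOdd.Spor.Tools
import Cfsg.Agent.LyPres.Adjoint14
import Cfsg.Agent.LyPres.RepHom

/-!
The Lyons group contains two commuting elements of order five generating a group of order 25.
-/

set_option autoImplicit false
set_option linter.style.haveILetI false
set_option Elab.async false

namespace Cfsg.Lib.CyclicOdd

open Cfsg.Spor Cfsg.Lib.LyPres

set_option maxRecDepth 100000 in
theorem ent_c5 : (List.finRange 14).any (fun i => (List.finRange 14).any fun j =>
    !(decide (ent14 (wmat 14 gen14 gen14i [16]) i j = ((1 : Matrix (Fin 14) (Fin 14) (ZMod 5)) i j)))) = true := by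
  decide +kernel

theorem c5_ne_one : fgen 8 ≠ 1 := by
  intro h
  have e : reIdx (u14 8) = 1 := by rw [← toG2_gen (by norm_num : 8 < 9), h, map_one]
  have hu : ∀ i j, (u14 8 : Matrix (Fin 14) (Fin 14) (ZMod 5)) i j = (1 : Matrix (Fin 14) (Fin 14) (ZMod 5)) i j := by
    intro i j
    have h1 := reIdx_val (u14 8) (idx14.symm i) (idx14.symm j)
    rw [e, Equiv.apply_symm_apply, Equiv.apply_symm_apply, Units.val_one] at h1
    rw [← h1]
    simp [Matrix.one_apply]
  obtain ⟨i, -, hi⟩ := List.any_eq_true.mp ent_c5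
  obtain ⟨j, -, hj⟩ := List.any_eq_true.mp hi
  rw [Bool.not_eq_true', decide_eq_false_iff_not] at hj
  refine hj ?_
  rw [ent14, wval14 [16] (by decide)]
  simpa [wval] using hu i j

theorem c2_conj : fgen 5 = (fgen 0)⁻¹ * fgen 2 * fgen 0 := by
  have h : [10, 1, 5, 0] ∈ rels9 := by decide +kernel
  have e := fgen_rels _ h
  simp [wval] at e
  rw [← mul_inv_eq_one, mul_inv_rev, mul_inv_rev, inv_inv]
  simpa [mul_assoc] using e

theorem bad_F [Finite F] : Bad F := by
  have h1 : fgen 2 ^ 5 = 1 := by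
    simpa [wval, pow_succ, mul_assoc] using fgen_rels _ (show [4, 4, 4, 4, 4] ∈ rels9 by decide +kernel)
  have h5 : fgen 8 ^ 5 = 1 := by
    simpa [wval, pow_succ, mul_assoc] using fgen_rels _ (show [16, 16, 16, 16, 16] ∈ rels9 by decide +kernel)
  have h15 : Commute (fgen 8) (fgen 2) := by
    have e := fgen_rels _ (show [5, 17, 4, 16] ∈ rels9 by decide +kernel)
    simp [wval, ← mul_assoc] at e
    have e' : (fgen 2)⁻¹ * (fgen 8)⁻¹ * fgen 2 * fgen 8 = 1 := e
    show fgen 8 * fgen 2 = fgen 2 * fgen 8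
    calc fgen 8 * fgen 2 = fgen 8 * fgen 2 * ((fgen 2)⁻¹ * (fgen 8)⁻¹ * fgen 2 * fgen 8) := by rw [e', mul_one]
      _ = fgen 2 * fgen 8 := by group
  refine bad_of_not_mem (p := 5) (by norm_num) (by norm_num) h15 h5 h1 c5_ne_one fun hm => c5_ne_one ?_
  -- otherwise c2 is a power of c1 and their commutator c5 is trivial
  obtain ⟨m, hmm⟩ := Subgroup.mem_zpowers_iff.mp hm
  have ea : (fgen 0)⁻¹ * fgen 8 * fgen 0 = fgen 8 ^ 2 := by
    have e := fgen_rels _ (show [1, 16, 0, 17, 17] ∈ rels9 by decide +kernel)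
    simp [wval, ← mul_assoc] at e
    rw [← mul_inv_eq_one, pow_two, mul_inv_rev, ← mul_assoc]
    exact e
  have hc2 : fgen 5 = fgen 8 ^ (2 * m) := by
    rw [c2_conj, ← hmm, zpow_mul, show fgen 8 ^ (2 : ℤ) = fgen 8 ^ 2 from zpow_natCast _ 2, ← ea]
    have := map_zpow (MulAut.conj (fgen 0)⁻¹).toMonoidHom (fgen 8) m
    simpa [MulAut.conj_apply] using this
  have h : [16, 11, 5, 10, 4] ∈ rels9 := by decide +kernel
  have e := fgen_rels _ h
  simp [wval, ← mul_assoc] at e
  rw [hc2, ← hmm] at e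
  have e2 : fgen 8 * (fgen 8 ^ (2 * m))⁻¹ * (fgen 8 ^ m)⁻¹ * fgen 8 ^ (2 * m) * fgen 8 ^ m = fgen 8 := by
    group
  rw [e2] at e
  exact e

theorem bad_Ly [Finite Spor.Ly] : Bad Spor.Ly := by
  haveI : Finite F := Finite.of_injective toLy toLy_injective
  exact bad_F.of_injective toLy toLy_injective

end Cfsg.Lib.CyclicOdd
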