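import Cfsg.Agent.CyclicOdd.Spor.Tools
import Cfsg.Agent.Rudvalis.Mult.Cover

/-!
The Rudvalis group contains two commuting elements of order five generating a group of order 25.
-/

set_option autoImplicit false
set_option linter.style.haveILetI false
set_option maxRecDepth 20000
set_option Elab.async false

namespace Cfsg.Lib.CyclicOdd

open Cfsg.Spor Cfsg.Lib.Rudvalis.Mult Cfsg.Lib.Schur.Prime
open Cfsg.Lib.Schur.ActPrime (ruleRow eq_of_eqOn map_val moves_in_orbit)
open Cfsg.Lib.Schur.PermPrime (getD_in flat_in)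

theorem bad_two : Bad Cfsg.Lib.Rudvalis.Mult.two := by
  let x : ℕ → Cfsg.Lib.Rudvalis.Mult.two := fun k =>
    ⟨wordVal (Five.pcw.getD k []), wordVal_mem _⟩
  have hx : ∀ k, rho (x k) = Cfsg.Lib.Schur.ActPrime.elem im (Five.pcw.getD k []) := fun k => vecPerm_wordVal _
  have hr : ∀ j < 3, ∀ i ≤ j, val x (Five.cert.lhs j i) = val x (Five.cert.tail j i) := by
    intro j hj i hi
    have h := List.all_eq_true.mp Five.rules_ok j (List.mem_range.mpr hj)
    simp only [ruleRow, List.all_eq_true, List.mem_range] at h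
    exact eq_of_eqOn rho acts based_two (flat_in Five.words_ok.1 _) (flat_in Five.words_ok.1 _)
      (map_val rho x hx _) (map_val rho x hx _) (h i (by omega))
  have h1 : x 1 ^ 5 = 1 := by
    have h := hr 1 (by omega) 1 le_rfl
    simpa [Cert.lhs, Cert.tail, Five.cert, val, List.replicate, pow_succ, mul_assoc] using h
  have h2 : x 2 ^ 5 = 1 := by
    have h := hr 2 (by omega) 2 le_rfl
    simpa [Cert.lhs, Cert.tail, Five.cert, val, List.replicate, pow_succ, mul_assoc] using h
  have h21 : Commute (x 2) (x 1) := by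
    have h := hr 2 (by omega) 1 (by omega)
    simpa [Commute, SemiconjBy, Cert.lhs, Cert.tail, Five.cert, val] using h
  have hnot : ∀ k < 3, x k ∉ Subgroup.closure (x '' {i | k + 1 ≤ i ∧ i < 3}) := fun k hk =>
    moves_in_orbit rho acts Five.words_ok.1 x hx (List.all_eq_true.mp Five.orbs_ok k (List.mem_range.mpr hk))
  refine bad_of_not_mem (p := 5) (by norm_num) (by norm_num) h21 h2 h1 (fun e => ?_) fun h => ?_
  · exact hnot 2 (by omega) (e ▸ one_mem _)
  · refine hnot 1 (by omega) ?_
    have h2m : x 2 ∈ Subgroup.closure (x '' {i | 1 + 1 ≤ i ∧ i < 3}) :=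
      Subgroup.subset_closure ⟨2, ⟨by omega, by omega⟩, rfl⟩
    exact Subgroup.zpowers_le.mpr h2m h

theorem bad_Ru [Finite Cfsg.Spor.Ru] : Bad Cfsg.Spor.Ru :=
  bad_two.of_ker_two proj (k := 1) (by rw [card_proj_ker]; norm_num)

end Cfsg.Lib.CyclicOdd
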