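import Cfsg.Agent.CyclicOdd.Spor.Tools
import Cfsg.Prelude.Def_Classical

/-!
Non-cyclic Sylow subgroups for the prime three in the symplectic group of degree four over four elements and
the unitary group of degree three over nine elements.
-/

set_option autoImplicit false
set_option linter.style.haveILetI false
set_option linter.unusedSectionVars false

namespace Cfsg.Lib.CyclicOdd

open Matrix

variable {K : Type*} [Field K]

theorem diag_symplectic (e : Fin 2 → K) (he : ∀ i, e i ≠ 0) :
    Matrix.diagonal (Sum.elim e fun i => (e i)⁻¹) ∈ Matrix.symplecticGroup (Fin 2) K := by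
  rw [SymplecticGroup.mem_iff, Matrix.diagonal_transpose]
  have h := he 0
  have h' := he 1
  ext i j
  rw [Matrix.mul_diagonal, Matrix.diagonal_mul]
  rcases i with i | i <;> rcases j with j | j <;> fin_cases i <;> fin_cases j <;>
    simp [Matrix.J, h, h']

theorem bad_symplectic [Fintype K] (hK : Fintype.card K = 4) : Bad (Matrix.symplecticGroup (Fin 2) K) := by
  classical
  haveI : Finite (Matrix.symplecticGroup (Fin 2) K) :=
    Finite.of_injective (fun g => (g : Matrix (Fin 2 ⊕ Fin 2) (Fin 2 ⊕ Fin 2) K)) Subtype.val_injective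
  obtain ⟨a, ha⟩ : ∃ a : K, a ∉ ({0, 1} : Finset K) := by
    by_contra h
    push Not at h
    have := (Finset.card_le_card (s := (Finset.univ : Finset K)) (t := {0, 1}) fun a _ => h a).trans Finset.card_le_two
    rw [Finset.card_univ, hK] at this
    omega
  simp only [Finset.mem_insert, Finset.mem_singleton, not_or] at ha
  have ha3 : a ^ 3 = 1 := by
    have := FiniteField.pow_card_sub_one_eq_one a ha.1
    rwa [hK] at this
  let x : Matrix.symplecticGroup (Fin 2) K :=
    ⟨_, diag_symplectic ![a, 1] (fun i => by fin_cases i <;> simp [ha.1])⟩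
  let y : Matrix.symplecticGroup (Fin 2) K :=
    ⟨_, diag_symplectic ![1, a] (fun i => by fin_cases i <;> simp [ha.1])⟩
  have hai : a⁻¹ ^ 3 = 1 := by rw [inv_pow, ha3, inv_one]
  refine bad_of_pair (p := 3) Nat.prime_three (by norm_num) (x := x) (y := y) ?_ ?_ ?_ ?_ ?_
  · refine Subtype.ext ?_
    show Matrix.diagonal _ * Matrix.diagonal _ = Matrix.diagonal _ * Matrix.diagonal _
    rw [Matrix.diagonal_mul_diagonal, Matrix.diagonal_mul_diagonal]
    simp only [mul_comm]
  · refine Subtype.ext ?_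
    show Matrix.diagonal _ ^ 3 = (1 : Matrix (Fin 2 ⊕ Fin 2) (Fin 2 ⊕ Fin 2) K)
    rw [Matrix.diagonal_pow, ← Matrix.diagonal_one]
    congr 1
    funext i
    rcases i with i | i <;> fin_cases i <;> simp [ha3]
  · refine Subtype.ext ?_
    show Matrix.diagonal _ ^ 3 = (1 : Matrix (Fin 2 ⊕ Fin 2) (Fin 2 ⊕ Fin 2) K)
    rw [Matrix.diagonal_pow, ← Matrix.diagonal_one]
    congr 1
    funext i
    rcases i with i | i <;> fin_cases i <;> simp [ha3]
  · intro h
    have := congrArg (fun g : Matrix.symplecticGroup (Fin 2) K =>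
      (g : Matrix (Fin 2 ⊕ Fin 2) (Fin 2 ⊕ Fin 2) K) (Sum.inl 0) (Sum.inl 0)) h
    simp [x] at this
    exact ha.2 this
  · intro k _ h
    have e := congrArg (fun g : Matrix.symplecticGroup (Fin 2) K =>
      (g : Matrix (Fin 2 ⊕ Fin 2) (Fin 2 ⊕ Fin 2) K) (Sum.inl 1) (Sum.inl 1)) h
    simp [x, y, Matrix.diagonal_pow] at e
    exact ha.2 e

section Unitary

variable {F : Type*} [Field F] [CharP F 3]

theorem three_zero : (3 : F) = 0 := CharP.cast_eq_zero F 3

/-- One plus a multiple of the all-ones matrix. -/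
def ones (c : F) : Matrix (Fin 3) (Fin 3) F := !![1 + c, c, c; c, 1 + c, c; c, c, 1 + c]

/-- A permutation matrix of order three. -/
def cyc : Matrix (Fin 3) (Fin 3) F := !![0, 1, 0; 0, 0, 1; 1, 0, 0]

/-- A diagonal matrix of order two. -/
def flip2 : Matrix (Fin 3) (Fin 3) F := !![-1, 0, 0; 0, -1, 0; 0, 0, 1]

theorem det_ones (c : F) : (ones c).det = 1 := by
  rw [Matrix.det_fin_three]
  simp [ones]
  linear_combination c * three_zero (F := F)

theorem det_cyc : (cyc : Matrix (Fin 3) (Fin 3) F).det = 1 := by rw [Matrix.det_fin_three]; simp [cyc]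

theorem det_flip2 : (flip2 : Matrix (Fin 3) (Fin 3) F).det = 1 := by rw [Matrix.det_fin_three]; simp [flip2]

theorem herm_ones {c : F} (hc : c ^ 3 = -c) (u v : Fin 3 → F) :
    Cfsg.hermForm 3 F 3 (ones c *ᵥ u) (ones c *ᵥ v) = Cfsg.hermForm 3 F 3 u v := by
  simp [Cfsg.hermForm, ones, Matrix.mulVec, dotProduct, Fin.sum_univ_three, add_pow_char, mul_pow, hc]
  linear_combination (-(c ^ 2) * (u 0 + u 1 + u 2) * (v 0 ^ 3 + v 1 ^ 3 + v 2 ^ 3)) * three_zero (F := F)

theorem herm_cyc (u v : Fin 3 → F) :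
    Cfsg.hermForm 3 F 3 (cyc *ᵥ u) (cyc *ᵥ v) = Cfsg.hermForm 3 F 3 u v := by
  simp [Cfsg.hermForm, cyc, Matrix.mulVec, dotProduct, Fin.sum_univ_three]
  ring

theorem herm_flip2 (u v : Fin 3 → F) :
    Cfsg.hermForm 3 F 3 (flip2 *ᵥ u) (flip2 *ᵥ v) = Cfsg.hermForm 3 F 3 u v := by
  simp [Cfsg.hermForm, flip2, Matrix.mulVec, dotProduct, Fin.sum_univ_three]
  ring

theorem ones_mul (c d : F) : ones c * ones d = ones (c + d) := by
  ext i j
  fin_cases i <;> fin_cases j <;> simp [ones, Matrix.mul_apply, Fin.sum_univ_three] <;>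
    linear_combination c * d * three_zero (F := F)

theorem ones_zero : ones (0 : F) = 1 := by
  ext i j
  fin_cases i <;> fin_cases j <;> simp [ones]

theorem bad_unitary [Fintype F] (hF : Fintype.card F = 9) : Bad (Cfsg.PSU 3 F 3) := by
  classical
  obtain ⟨c, hc⟩ : IsSquare (-1 : F) := FiniteField.isSquare_neg_one_iff.mpr (by rw [hF]; norm_num)
  have hc3 : c ^ 3 = -c := by linear_combination -c * hc
  have hc0 : c ≠ 0 := by rintro rfl; simp at hc
  have hk3 : ∀ k : ℕ, ((k : F) * c) ^ 3 = -((k : F) * c) := fun k => by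
    rw [mul_pow, hc3, ← frobenius_def (R := F) (p := 3), map_natCast]; ring
  let el : ∀ d : F, d ^ 3 = -d → Cfsg.SU 3 F 3 := fun d hd => ⟨⟨ones d, det_ones d⟩, herm_ones hd⟩
  let y : Cfsg.SU 3 F 3 := ⟨⟨cyc, det_cyc⟩, herm_cyc⟩
  let d : Cfsg.SU 3 F 3 := ⟨⟨flip2, det_flip2⟩, herm_flip2⟩
  let x := el c hc3
  let toM : Cfsg.SU 3 F 3 →* Matrix (Fin 3) (Fin 3) F := (Cfsg.slToMat 3 F).comp (Cfsg.SU 3 F 3).subtype
  have toM_inj : Function.Injective toM := fun a b h => Subtype.ext (Subtype.ext h)
  have hpow : ∀ k : ℕ, toM (x ^ k) = ones ((k : F) * c) := by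
    intro k
    induction k with
    | zero => rw [pow_zero, map_one, Nat.cast_zero, zero_mul, ones_zero]
    | succ k ih =>
      rw [pow_succ, map_mul, ih, show toM x = ones c from rfl, ones_mul]
      congr 1; push_cast; ring
  have hnotc : ∀ g : Cfsg.SU 3 F 3, toM g * flip2 ≠ flip2 * toM g → g ∉ Subgroup.center (Cfsg.SU 3 F 3) := by
    intro g hg h
    refine hg ?_
    have := congrArg toM ((Subgroup.mem_center_iff.mp h d).symm)
    rwa [map_mul, map_mul] at this
  have h20 : (2 : F) ≠ 0 := fun h => one_ne_zero (α := F) (by linear_combination three_zero (F := F) - h)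
  refine bad_of_quot_pair (p := 3) Nat.prime_three (by norm_num) (N := Subgroup.center (Cfsg.SU 3 F 3))
    (QuotientGroup.mk' _) (fun h hh => (QuotientGroup.eq_one_iff h).mp hh) (x := x) (y := y) ?_ ?_ ?_ ?_ ?_
  · congr 1
    refine toM_inj ?_
    rw [map_mul, map_mul, show toM x = ones c from rfl, show toM y = cyc from rfl]
    ext i j
    fin_cases i <;> fin_cases j <;> simp [ones, cyc, Matrix.mul_apply, Fin.sum_univ_three]
  · rw [show x ^ 3 = 1 from toM_inj (by rw [hpow, map_one, Nat.cast_ofNat, three_zero, zero_mul, ones_zero]), map_one]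
  · rw [show y ^ 3 = 1 from toM_inj (by
      rw [map_pow, map_one, show toM y = cyc from rfl]
      ext i j
      fin_cases i <;> fin_cases j <;> simp [cyc, pow_succ, Matrix.mul_apply, Fin.sum_univ_three]), map_one]
  · refine hnotc x fun h => hc0 ?_
    have e := congrFun (congrFun h 0) 2
    rw [show toM x = ones c from rfl] at e
    simp [ones, flip2, Matrix.mul_apply, Fin.sum_univ_three] at e
    have : c * 2 = 0 := by linear_combination e
    exact (mul_eq_zero.mp this).resolve_right h20
  · intro k _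
    refine hnotc _ fun h => ?_
    have hinv : toM (x ^ k)⁻¹ = ones (-((k : F) * c)) := by
      calc toM (x ^ k)⁻¹ = toM (x ^ k)⁻¹ * (ones ((k : F) * c) * ones (-((k : F) * c))) := by
            rw [ones_mul, add_neg_cancel, ones_zero, mul_one]
        _ = ones (-((k : F) * c)) := by
            rw [← hpow, ← mul_assoc, ← map_mul, inv_mul_cancel, map_one, one_mul]
    rw [map_mul, hinv, show toM y = cyc from rfl] at h
    have e1 := congrFun (congrFun h 0) 2
    have e2 := congrFun (congrFun h 2) 0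
    simp [ones, cyc, flip2, Matrix.mul_apply, Fin.sum_univ_three] at e1 e2
    have h4 : (2 : F) = 0 := by linear_combination -e1 - e2
    exact h20 h4

end Unitary

end Cfsg.Lib.CyclicOdd
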