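import Cfsg.Agent.CyclicOdd.Spor.Tools
import Cfsg.Prelude.Def_Spor_Th

/-!
Commuting elements of order three in the Thompson group, straight from the relations.
-/

set_option autoImplicit false
set_option linter.style.haveILetI false
set_option linter.unusedSimpArgs false

namespace Cfsg.Lib.CyclicOdd

open Cfsg.Spor Cfsg.Spor.Th

/-- An image of a generator. -/
abbrev thG (x : Gen) : Spor.Th := PresentedGroup.of x

/-- The map from words. -/
abbrev thMk : FreeGroup Gen →* Spor.Th := PresentedGroup.mk (coxRelators edges ∪ {r | r ∈ extra})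

theorem th_rel (n : ℕ) (r : FreeGroup Gen) (h : extra[n]? = some r) : thMk r = 1 :=
  PresentedGroup.one_of_mem (Or.inr (List.mem_of_getElem? h))

theorem thMk_of (x : Gen) : thMk (FreeGroup.of x) = thG x := rfl

theorem th_sq_ac : thG .a * thG .a = 1 ∧ thG .b * thG .b = 1 ∧ thG .c * thG .c = 1 ∧ thG .d * thG .d = 1 ∧
    thG .e * thG .e = 1 := by
  refine ⟨?_, ?_, ?_, ?_, ?_⟩
  · simpa [Th.a, map_mul, map_pow, map_inv, thMk_of, pow_two] using th_rel 0 (Th.a ^ 2) rfl
  · simpa [Th.b, map_mul, map_pow, map_inv, thMk_of, pow_two] using th_rel 1 (Th.b ^ 2) rfl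
  · simpa [Th.c, map_mul, map_pow, map_inv, thMk_of, pow_two] using th_rel 2 (Th.c ^ 2) rfl
  · simpa [Th.d, map_mul, map_pow, map_inv, thMk_of, pow_two] using th_rel 3 (Th.d ^ 2) rfl
  · simpa [Th.e, map_mul, map_pow, map_inv, thMk_of, pow_two] using th_rel 4 (Th.e ^ 2) rfl

theorem th_subsingleton (h : thG .t = 1 ∨ thG .a * thG .b = 1) : ∀ x, thG x = 1 := by
  obtain ⟨haa, hbb, hcc, hdd, hee⟩ := th_sq_ac
  have ia : (thG .a)⁻¹ = thG .a := inv_eq_of_mul_eq_one_left haa
  have ic : (thG .c)⁻¹ = thG .c := inv_eq_of_mul_eq_one_left hcc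
  have id' : (thG .d)⁻¹ = thG .d := inv_eq_of_mul_eq_one_left hdd
  have ie : (thG .e)⁻¹ = thG .e := inv_eq_of_mul_eq_one_left hee
  have hab : (thG .a * thG .b) ^ 3 = 1 := by
    simpa [Th.a, Th.b, map_mul, map_pow, map_inv, thMk_of] using th_rel 5 ((Th.a * Th.b) ^ 3) rfl
  have hbc : (thG .b * thG .c) ^ 3 = 1 := by
    simpa [Th.b, Th.c, map_mul, map_pow, map_inv, thMk_of] using th_rel 7 ((Th.b * Th.c) ^ 3) rfl
  have hbd : (thG .b * thG .d) ^ 2 = 1 := by
    simpa [Th.b, Th.d, map_mul, map_pow, map_inv, thMk_of] using th_rel 8 ((Th.b * Th.d) ^ 2) rfl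
  have hacd : thG .a = (thG .c * thG .d) ^ 4 := by
    have := th_rel 10 (Th.a * (((Th.c * Th.d) ^ 4)⁻¹)) rfl
    rw [← mul_inv_eq_one]
    simpa [Th.a, Th.c, Th.d, map_mul, map_pow, map_inv, thMk_of] using this
  have hde : (thG .d * thG .e) ^ 3 = 1 := by
    simpa [Th.d, Th.e, map_mul, map_pow, map_inv, thMk_of] using th_rel 12 ((Th.d * Th.e) ^ 3) rfl
  have hbcde : (thG .b * thG .c * thG .d * thG .e) ^ 8 = 1 := by
    simpa [Th.b, Th.c, Th.d, Th.e, map_mul, map_pow, map_inv, thMk_of] using th_rel 13 ((Th.b * Th.c * Th.d * Th.e) ^ 8) rfl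
  have hs7 : thG .s ^ 7 = 1 := by
    simpa [Th.s, map_mul, map_pow, map_inv, thMk_of] using th_rel 14 (Th.s ^ 7) rfl
  have hsd : (thG .s * thG .d) ^ 2 = 1 := by
    simpa [Th.s, Th.d, map_mul, map_pow, map_inv, thMk_of] using th_rel 18 ((Th.s * Th.d) ^ 2) rfl
  have hes : (thG .e)⁻¹ * (thG .s)⁻¹ * thG .e * thG .s = (thG .s ^ 3)⁻¹ * thG .e * thG .s ^ 3 := by
    have := th_rel 19 ((Th.e⁻¹ * Th.s⁻¹ * Th.e * Th.s) * (((Th.s ^ 3)⁻¹ * Th.e * (Th.s ^ 3))⁻¹)) rfl
    rw [← mul_inv_eq_one]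
    simpa [Th.e, Th.s, map_mul, map_pow, map_inv, thMk_of] using this
  have hst : (thG .t)⁻¹ * thG .s * thG .t = thG .s ^ 2 := by
    have := th_rel 26 ((Th.t⁻¹ * Th.s * Th.t) * ((Th.s ^ 2)⁻¹)) rfl
    rw [← mul_inv_eq_one]
    simpa [Th.t, Th.s, map_mul, map_pow, map_inv, thMk_of] using this
  have hu2 : thG .u ^ 2 = thG .a * thG .c := by
    have := th_rel 27 ((Th.u ^ 2) * ((Th.a * Th.c)⁻¹)) rfl
    rw [← mul_inv_eq_one]
    simpa [Th.u, Th.a, Th.c, map_mul, map_pow, map_inv, thMk_of] using this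
  have hus : thG .a * thG .c = (thG .u * thG .s) ^ 3 := by
    have := th_rel 36 ((Th.a * Th.c) * (((Th.u * Th.s) ^ 3)⁻¹)) rfl
    rw [← mul_inv_eq_one]
    simpa [Th.u, Th.s, Th.a, Th.c, map_mul, map_pow, map_inv, thMk_of] using this
  have htu : (thG .u)⁻¹ * thG .t * thG .u = (thG .t)⁻¹ := by
    have := th_rel 34 ((Th.u⁻¹ * Th.t * Th.u) * ((Th.t⁻¹)⁻¹)) rfl
    rw [← mul_inv_eq_one]
    simpa [Th.u, Th.t, map_mul, map_pow, map_inv, thMk_of] using this
  have ht3 : thG .t ^ 3 = 1 := by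
    simpa [Th.t, map_mul, map_pow, map_inv, thMk_of] using th_rel 20 (Th.t ^ 3) rfl
  -- an involution with a third power that is trivial
  have small : ∀ {g : Spor.Th} {m n : ℕ}, g ^ m = 1 → g ^ n = 1 → Nat.gcd m n = 1 → g = 1 := by
    intro g m n h1 h2 hg
    have := pow_gcd_eq_one.mpr ⟨h1, h2⟩
    rwa [hg, pow_one] at this
  have key : thG .a = 1 ∧ thG .b = 1 ∧ thG .c = 1 ∧ thG .d = 1 ∧ thG .e = 1 ∧ thG .s = 1 := by
    rcases h with ht | hab1
    · have hs : thG .s = 1 := by simpa [ht, pow_two] using hst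
      have he : thG .e = 1 := by simpa [hs, eq_comm] using hes
      have hd : thG .d = 1 := small (m := 3) (n := 2) (by simpa [he] using hde) (by rw [pow_two, hdd]) rfl
      have ha : thG .a = 1 := by
        rw [hacd, hd, mul_one, show 4 = 2 * 2 from rfl, pow_mul, pow_two (thG .c), hcc, one_pow]
      have hb : thG .b = 1 := small (m := 3) (n := 2) (by simpa [ha] using hab) (by rw [pow_two, hbb]) rfl
      have hc : thG .c = 1 := small (m := 3) (n := 2) (by simpa [hb] using hbc) (by rw [pow_two, hcc]) rfl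
      exact ⟨ha, hb, hc, hd, he, hs⟩
    · have hba : thG .b = thG .a := by rw [eq_inv_of_mul_eq_one_right hab1, ia]
      have hca : thG .c * thG .a * thG .c = thG .a := by
        have e1 : thG .c * (thG .c * thG .d) ^ 4 * (thG .c)⁻¹ = (thG .c * (thG .c * thG .d) * (thG .c)⁻¹) ^ 4 :=
          (conj_pow ..).symm
        have e2 : thG .c * (thG .c * thG .d) * (thG .c)⁻¹ = (thG .c * thG .d)⁻¹ := by
          rw [mul_inv_rev, ic, id', ← mul_assoc (thG .c), hcc, one_mul]
        rw [e2, inv_pow, ← hacd, ia, ic] at e1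
        exact e1
      have hac2 : (thG .a * thG .c) ^ 2 = 1 := by
        rw [pow_two, mul_assoc, ← mul_assoc (thG .c), hca, haa]
      have hac : thG .a * thG .c = 1 := small (m := 3) (n := 2) (by rw [← hba]; exact hbc) hac2 rfl
      have hceq : thG .c = thG .a := by rw [eq_inv_of_mul_eq_one_right hac, ia]
      have hb' : (thG .a * thG .d) ^ 2 = 1 := by rw [← hba]; exact hbd
      have ha : thG .a = 1 := by
        rw [hceq, show 4 = 2 * 2 from rfl, pow_mul, hb', one_pow] at hacd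
        exact hacd
      have hb : thG .b = 1 := hba.trans ha
      have hc : thG .c = 1 := hceq.trans ha
      have hde1 : thG .d * thG .e = 1 := small (m := 3) (n := 8) hde (by simpa [hb, hc] using hbcde) rfl
      have hed : thG .e = thG .d := by rw [eq_inv_of_mul_eq_one_right hde1, id']
      have hinv : thG .d * (thG .s)⁻¹ * thG .d = thG .s := by
        rw [pow_two] at hsd
        have e := eq_inv_of_mul_eq_one_left hsd
        rw [mul_inv_rev, id'] at e
        conv_rhs => rw [← mul_one (thG .s), ← hdd, ← mul_assoc, e]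
      rw [hed, id', hinv] at hes
      have hd2 : thG .d = thG .s ^ 2 := by
        have : thG .d = thG .s ^ 3 * (thG .s * thG .s) * (thG .s ^ 3)⁻¹ := by rw [hes]; group
        rw [this]; group
      have hs4 : thG .s ^ 4 = 1 := by rw [show 4 = 2 * 2 from rfl, pow_mul, ← hd2, pow_two, hdd]
      have hs : thG .s = 1 := small hs7 hs4 rfl
      have hd : thG .d = 1 := by rw [hd2, hs, one_pow]
      exact ⟨ha, hb, hc, hd, hed.trans hd, hs⟩
  obtain ⟨ha, hb, hc, hd, he, hs⟩ := key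
  have hu : thG .u = 1 :=
    small (m := 3) (n := 2) (by simpa [ha, hc, hs, eq_comm] using hus) (by simpa [ha, hc] using hu2) rfl
  have ht : thG .t = 1 := by
    refine small ht3 (n := 2) ?_ rfl
    rw [pow_two, ← inv_eq_iff_mul_eq_one]
    simpa [hu, eq_comm] using htu
  intro x
  cases x <;> assumption

theorem comm_of_word {G : Type*} [Group G] {x y : G} (h : x⁻¹ * y⁻¹ * x * y = 1) : Commute x y := by
  show x * y = y * x
  calc x * y = y * x * (x⁻¹ * y⁻¹ * x * y) := by group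
    _ = y * x := by rw [h, mul_one]

theorem bad_Th [Finite Spor.Th] (h : ¬ IsMulCommutative Spor.Th) : Bad Spor.Th := by
  obtain ⟨haa, hbb, -⟩ := th_sq_ac
  have hne : thG .t ≠ 1 ∧ thG .a * thG .b ≠ 1 := by
    rw [← not_or]
    intro hor
    have hall := th_subsingleton hor
    have hle : (⊤ : Subgroup Spor.Th) ≤ ⊥ := by
      rw [← PresentedGroup.closure_range_of, Subgroup.closure_le]
      rintro _ ⟨x, rfl⟩
      exact Subgroup.mem_bot.mpr (hall x)
    exact h ⟨⟨fun p q => by rw [Subgroup.mem_bot.mp (hle (Subgroup.mem_top p)),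
      Subgroup.mem_bot.mp (hle (Subgroup.mem_top q))]⟩⟩
  have hta : Commute (thG .t) (thG .a) := by
    have := th_rel 21 (Th.t⁻¹ * Th.a⁻¹ * Th.t * Th.a) rfl
    simp [Th.t, Th.a, map_mul, map_pow, map_inv, thMk_of] at this
    exact comm_of_word this
  have htb : Commute (thG .t) (thG .b) := by
    have := th_rel 22 (Th.t⁻¹ * Th.b⁻¹ * Th.t * Th.b) rfl
    simp [Th.t, Th.b, map_mul, map_pow, map_inv, thMk_of] at this
    exact comm_of_word this
  refine bad_of_inverted (p := 3) Nat.prime_three (by norm_num) (a := thG .a) (x := thG .a * thG .b) (y := thG .t)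
    (hta.mul_right htb).symm ?_ ?_ hne.2 hne.1 ?_ hta.symm
  · simpa [Th.a, Th.b, map_mul, map_pow, map_inv, thMk_of] using th_rel 5 ((Th.a * Th.b) ^ 3) rfl
  · simpa [Th.t, map_mul, map_pow, map_inv, thMk_of] using th_rel 20 (Th.t ^ 3) rfl
  · rw [mul_inv_rev, inv_eq_of_mul_eq_one_left haa, inv_eq_of_mul_eq_one_left hbb, ← mul_assoc (thG .a), haa, one_mul]

end Cfsg.Lib.CyclicOdd
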