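import Cfsg.Agent.CyclicOdd.Spor.Conway
import Cfsg.Agent.CyclicOdd.Spor.Cox
import Cfsg.Agent.CyclicOdd.Spor.Tits
import Cfsg.Agent.CyclicOdd.Spor.Ru
import Cfsg.Agent.CyclicOdd.Spor.Ly
import Cfsg.Agent.CyclicOdd.Spor.Th
import Cfsg.Agent.CyclicOdd.Spor.Small
import Cfsg.Agent.S1624
import Cfsg.Agent.S1682
import Cfsg.Agent.S1708
import Cfsg.Agent.S1711
import Cfsg.Agent.S2041
import Cfsg.Agent.S2048
import Cfsg.Agent.S2052
import Cfsg.Agent.S2053
import Cfsg.Agent.S2055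
import Cfsg.Prelude.Def_Classification2

/-!
Among the sporadic groups and the Tits group only the first Janko group has cyclic Sylow subgroups for all
odd primes.
-/

set_option autoImplicit false
set_option linter.unusedSectionVars false
set_option maxRecDepth 20000
set_option linter.style.haveILetI false

namespace Cfsg.Lib.CyclicOdd

open Cfsg Cfsg.Spor

universe u v

theorem bad_He [Finite Spor.He] : Bad Spor.He := by
  obtain ⟨N, K, i1, i2, -, -, hK, ⟨e⟩⟩ := Cfsg.Agent.S1682.result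
  letI := i1
  letI := i2
  exact Bad.of_subgroup _ (Bad.of_subgroup N ((bad_symplectic hK).of_equiv e.symm))

theorem bad_J2 [Finite Spor.J2] : Bad Spor.J2 := by
  obtain ⟨H, -, ⟨F, i1, i2, hF, ⟨e⟩⟩, -⟩ := Cfsg.Agent.S1624.result
  letI := i1
  letI := i2
  obtain ⟨p, _⟩ := CharP.exists F
  obtain ⟨n, hp, hn⟩ := FiniteField.card F p
  have hp3 : p = 3 := by
    have h3 : p ∣ 3 ^ 2 := ⟨p ^ ((n : ℕ) - 1), by
      rw [← pow_succ', Nat.sub_add_cancel n.pos, ← hn, hF]; norm_num⟩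
    exact (Nat.prime_dvd_prime_iff_eq hp Nat.prime_three).mp (hp.dvd_of_dvd_pow h3)
  subst hp3
  exact Bad.of_subgroup H ((bad_unitary hF).of_equiv e.symm)

theorem bad_HN [Finite Spor.HN] : Bad Spor.HN := by
  obtain ⟨K, -, -, hK⟩ := Cfsg.Agent.S1708.result
  exact Bad.of_subgroup _ (Bad.of_subgroup K (bad_of_double_cover hK bad_HS))

theorem bad_J4 [Finite Spor.J4] : Bad Spor.J4 := by
  obtain ⟨e⟩ := Cfsg.Agent.S1711.result
  exact Bad.of_subgroup _ (bad_M24.of_equiv e.symm)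

variable {S : Type u} [Group S] [Finite S]

theorem not_bad (hc : ∀ p : ℕ, p.Prime → p ≠ 2 → ∀ P : Sylow p S, IsCyclic P) {T : Type v} [Group T] (e : S ≃* T)
    (h : Bad T) : False :=
  (h.of_equiv e.symm).false hc

theorem bad_of_iso_multiplier [IsSimpleGroup S] (hna : ¬ IsMulCommutative S) {T : Type v} [Group T] (e : S ≃* T)
    {n : ℕ} [NeZero n] (h3 : 3 ∣ n) (h : Cfsg.HasCyclicSchurMultiplier T n) : Bad T := by
  haveI : Finite T := Finite.of_equiv S e.toEquiv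
  haveI : IsSimpleGroup T := e.symm.isSimpleGroup
  refine bad_of_multiplier (perfect_of_simple fun hT => hna ⟨⟨fun a b => e.injective ?_⟩⟩) Nat.prime_three
    (by norm_num) h3 h
  rw [map_mul, map_mul]
  exact hT.is_comm.comm _ _

/-- The sporadic groups and the Tits group. -/
theorem sporadic [IsSimpleGroup S] (hna : ¬ IsMulCommutative S)
    (h : Cfsg.IsSporadicGroup S ∨ Cfsg.Lie.IsoTits S)
    (hc : ∀ p : ℕ, p.Prime → p ≠ 2 → ∀ P : Sylow p S, IsCyclic P) : Cfsg.Spor.IsoJ1 S := by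
  have tna : ∀ {T : Type} [Group T], (S ≃* T) → ¬ IsMulCommutative T := fun e hT =>
    hna ⟨⟨fun a b => e.injective (by rw [map_mul, map_mul]; exact hT.is_comm.comm _ _)⟩⟩
  rcases h with h | h
  · rcases h with ⟨⟨e⟩⟩ | ⟨⟨e⟩⟩ | ⟨⟨e⟩⟩ | ⟨⟨e⟩⟩ | ⟨⟨e⟩⟩ | h | ⟨⟨e⟩⟩ | ⟨F, i1, i2, w, hF, hw, ⟨e⟩⟩ | ⟨⟨e⟩⟩ |
      ⟨⟨e⟩⟩ | ⟨⟨e⟩⟩ | ⟨⟨e⟩⟩ | ⟨⟨e⟩⟩ | ⟨⟨e⟩⟩ | ⟨⟨e⟩⟩ | ⟨⟨e⟩⟩ | ⟨⟨e⟩⟩ | ⟨⟨e⟩⟩ | ⟨⟨e⟩⟩ | ⟨⟨e⟩⟩ | ⟨⟨e⟩⟩ | ⟨⟨e⟩⟩ |
      ⟨⟨e⟩⟩ | ⟨⟨e⟩⟩ | ⟨⟨e⟩⟩ | ⟨⟨e⟩⟩
    · exact (not_bad hc e bad_M11).elim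
    · exact (not_bad hc e bad_M12).elim
    · exact (not_bad hc e bad_M22).elim
    · exact (not_bad hc e bad_M23).elim
    · exact (not_bad hc e bad_M24).elim
    · exact h
    · haveI := Finite.of_equiv S e.toEquiv; exact (not_bad hc e bad_J2).elim
    · exact (not_bad hc e (bad_of_iso_multiplier hna e (dvd_refl 3) (Cfsg.Agent.S2041.result hF w hw))).elim
    · haveI := Finite.of_equiv S e.toEquiv; exact (not_bad hc e bad_J4).elim
    · haveI := Finite.of_equiv S e.toEquiv; exact (not_bad hc e bad_Co1).elim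
    · exact (not_bad hc e bad_Co2).elim
    · exact (not_bad hc e bad_Co3).elim
    · exact (not_bad hc e bad_McL).elim
    · exact (not_bad hc e bad_HS).elim
    · exact (not_bad hc e (bad_of_iso_multiplier hna e (by norm_num : 3 ∣ 6) Cfsg.Agent.S2048.result)).elim
    · haveI := Finite.of_equiv S e.toEquiv; exact (not_bad hc e bad_He).elim
    · haveI := Finite.of_equiv S e.toEquiv; exact (not_bad hc e bad_Ru).elim
    · exact (not_bad hc e (bad_of_iso_multiplier hna e (dvd_refl 3) Cfsg.Agent.S2052.result)).elim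
    · haveI := Finite.of_equiv S e.toEquiv; exact (not_bad hc e bad_Ly).elim
    · exact (not_bad hc e (bad_of_iso_multiplier hna e (by norm_num : 3 ∣ 6) Cfsg.Agent.S2053.result)).elim
    · haveI := Finite.of_equiv S e.toEquiv; exact (not_bad hc e (bad_Fi23 (tna e))).elim
    · exact (not_bad hc e (bad_of_iso_multiplier hna e (dvd_refl 3) Cfsg.Agent.S2055.result)).elim
    · haveI := Finite.of_equiv S e.toEquiv; exact (not_bad hc e bad_HN).elim
    · haveI := Finite.of_equiv S e.toEquiv; exact (not_bad hc e (bad_Th (tna e))).elim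
    · haveI := Finite.of_equiv S e.toEquiv; exact (not_bad hc e (bad_B (tna e))).elim
    · haveI := Finite.of_equiv S e.toEquiv; exact (not_bad hc e (bad_M (tna e))).elim
  · exact (not_tits hc h).elim

end Cfsg.Lib.CyclicOdd
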