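import Cfsg.Agent.CyclicOdd.Spor.Mathieu
import Cfsg.Agent.Leech.Monomial
import Cfsg.Prelude.Def_Spor_Conway

/-!
The two point stabiliser in the largest Mathieu group acts on the lattice fixing the three vectors.
-/

set_option autoImplicit false
set_option linter.style.haveILetI false

namespace Cfsg.Lib.CyclicOdd

open Cfsg Cfsg.Lib.Golay Cfsg.Lib.Leech

/-- Coordinate permutations as a homomorphism. -/
noncomputable def permHom : M24 →* Co0 where
  toFun σ := mono σ.2 empty_mem_code
  map_one' := co0_ext fun v => Subtype.ext (funext fun i => by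
    rw [mono_apply, one_smul]; simp [signedPerm]; rfl)
  map_mul' σ τ := co0_ext fun v => Subtype.ext (funext fun i => by
    rw [mul_smul, mono_apply, mono_apply]; simp [signedPerm, mono_apply]; rfl)

/-- The stabiliser of two points inside the automorphisms of the lattice. -/
noncomputable def m22Hom : Spor.M22 →* Equiv.Perm leechLattice :=
  (Co0.subtype.comp permHom).comp (Subgroup.inclusion (M22_le_M23.trans M23_le_M24))

theorem m22Hom_apply (σ : Spor.M22) (v : leechLattice) (i : GolayPt) :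
    ((m22Hom σ v : leechLattice) : GolayPt → ℤ) i = (v : GolayPt → ℤ) ((σ : Equiv.Perm GolayPt).symm i) := by
  show ((permHom ⟨σ, _⟩ • v : leechLattice) : GolayPt → ℤ) i = _
  rw [show permHom ⟨(σ : Equiv.Perm GolayPt), _⟩ = mono _ empty_mem_code from rfl, mono_apply]
  simp [signedPerm]

theorem m22Hom_injective : Function.Injective m22Hom := by
  intro a b h
  refine Subtype.ext (Equiv.ext fun p => ?_)
  by_contra hne
  have := congrFun (congrArg Subtype.val (DFunLike.congr_fun h (e8 p))) ((a : Equiv.Perm GolayPt) p)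
  rw [m22Hom_apply, m22Hom_apply, Equiv.symm_apply_apply] at this
  have hq : (b : Equiv.Perm GolayPt).symm ((a : Equiv.Perm GolayPt) p) ≠ p := fun e =>
    hne ((Equiv.symm_apply_eq _).mp e)
  simp [e8, hq] at this

theorem fixes {σ : Equiv.Perm GolayPt} (hσ : σ ∈ Spor.M22) (i : GolayPt) :
    (σ.symm i = none ↔ i = none) ∧ (σ.symm i = some 0 ↔ i = some 0) := by
  have h0 : σ none = none := hσ.1.2
  have h1 : σ (some 0) = some 0 := hσ.2
  constructor
  · rw [Equiv.symm_apply_eq, h0]
  · rw [Equiv.symm_apply_eq, h1]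

theorem m22_mem_Co2 (σ : Spor.M22) : m22Hom σ ∈ Spor.Co2 :=
  ⟨(permHom _).2, MulAction.mem_stabilizer_iff.mpr (Subtype.ext (funext fun i => by
    show ((m22Hom σ Spor.leechU : leechLattice) : GolayPt → ℤ) i = _
    rw [m22Hom_apply]
    simp [Spor.leechU, Spor.vecU, (fixes σ.2 i).1, (fixes σ.2 i).2]))⟩

theorem m22_mem_Co3 (σ : Spor.M22) : m22Hom σ ∈ Spor.Co3 :=
  ⟨(permHom _).2, MulAction.mem_stabilizer_iff.mpr (Subtype.ext (funext fun i => by
    show ((m22Hom σ Spor.leechV : leechLattice) : GolayPt → ℤ) i = _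
    rw [m22Hom_apply]
    simp [Spor.leechV, Spor.vecV, (fixes σ.2 i).1]))⟩

theorem m22_mem_McL (σ : Spor.M22) : m22Hom σ ∈ Spor.McL :=
  ⟨m22_mem_Co3 σ, MulAction.mem_stabilizer_iff.mpr (Subtype.ext (funext fun i => by
    show ((m22Hom σ Spor.leechU : leechLattice) : GolayPt → ℤ) i = _
    rw [m22Hom_apply]
    simp [Spor.leechU, Spor.vecU, (fixes σ.2 i).1, (fixes σ.2 i).2]))⟩

theorem m22_mem_HS (σ : Spor.M22) : m22Hom σ ∈ Spor.HS :=
  ⟨m22_mem_Co3 σ, MulAction.mem_stabilizer_iff.mpr (Subtype.ext (funext fun i => by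
    show ((m22Hom σ Spor.leechU' : leechLattice) : GolayPt → ℤ) i = _
    rw [m22Hom_apply]
    simp [Spor.leechU', Spor.vecU', (fixes σ.2 i).1, (fixes σ.2 i).2]))⟩

theorem bad_of_contains {S : Subgroup (Equiv.Perm leechLattice)} (h : ∀ σ : Spor.M22, m22Hom σ ∈ S) : Bad S := by
  refine bad_M22.of_injective (m22Hom.codRestrict S h) ?_
  intro a b e
  apply m22Hom_injective
  exact (congrArg Subtype.val e :)

theorem bad_Co2 : Bad Spor.Co2 := bad_of_contains m22_mem_Co2
theorem bad_Co3 : Bad Spor.Co3 := bad_of_contains m22_mem_Co3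
theorem bad_McL : Bad Spor.McL := bad_of_contains m22_mem_McL
theorem bad_HS : Bad Spor.HS := bad_of_contains m22_mem_HS

theorem bad_Co1 [Finite Spor.Co1] : Bad Spor.Co1 :=
  (bad_of_contains (S := Co0) fun σ => (permHom _).2).of_ker_two (QuotientGroup.mk' (Subgroup.center Co0))
    (k := 1) (by rw [QuotientGroup.ker_mk', card_center]; norm_num)

end Cfsg.Lib.CyclicOdd
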