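import Cfsg.Agent.CyclicOdd.Spor.Tools
import Cfsg.Agent.Golay.SmallSylow
import Cfsg.Agent.Golay.M22Mult
import Cfsg.Agent.Golay.Subgroups

/-!
Non-cyclic Sylow subgroups for the prime three in the five Mathieu groups.
-/

set_option autoImplicit false
set_option linter.style.haveILetI false
set_option Elab.async false

namespace Cfsg.Lib.CyclicOdd

open Cfsg Cfsg.Lib.Golay Cfsg.Lib.PermCert

theorem syl3_cubes : (syl3List.all fun g => (List.range 24).all fun i => (ap g.1)^[3] i == i) = true := by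
  decide +kernel

theorem toP_iterate {t : PP} (ht : valid 24 t = true) (p : GolayPt) :
    ∀ n : ℕ, pidx ((toP t ^ n) p) = (ap t.1)^[n] (pidx p)
  | 0 => rfl
  | n + 1 => by
    rw [pow_succ', Equiv.Perm.mul_apply, Function.iterate_succ_apply', pidx_toP ht, toP_iterate ht p n]

theorem bad_M11 : Bad Spor.M11 := by
  have hl := syl_ok.2.1
  simp only [sylOK, Bool.and_eq_true, List.all_eq_true, Bool.or_eq_true, List.any_eq_true, Bool.not_eq_true',
    beq_iff_eq, List.mem_range] at hl
  obtain ⟨hgrp, hall⟩ := hl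
  have hne : syl3List ≠ [] := by
    intro h
    have h9 := syl_ok.2.2.2
    rw [h] at h9
    cases h9
  obtain ⟨P, hP, hmem⟩ := exists_listGroup hgrp hne
  have hle : P ≤ Spor.M11 := fun x hx => by
    obtain ⟨a, ha, rfl⟩ := (hmem x).mp hx
    obtain ⟨⟨⟨h1, h2⟩, h3⟩, -⟩ := hall a ha
    exact m11_mem h1 h2 h3
  have hcube : ∀ x ∈ P, x ^ 3 = 1 := fun x hx => by
    obtain ⟨a, ha, rfl⟩ := (hmem x).mp hx
    obtain ⟨⟨⟨h1, -⟩, -⟩, -⟩ := hall a ha
    have hv : valid 24 a = true := by simp only [preserves, Bool.and_eq_true] at h1; exact h1.1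
    refine Equiv.ext fun p => pidx_injective ?_
    rw [toP_iterate hv p 3, Equiv.Perm.one_apply]
    have := List.all_eq_true.mp (List.all_eq_true.mp syl3_cubes a ha) (pidx p) (List.mem_range.mpr (pidx_lt p))
    exact beq_iff_eq.mp this
  have hcard : Nat.card (P.subgroupOf Spor.M11) = 3 ^ 2 := by
    rw [Nat.card_congr (Subgroup.subgroupOfEquivOfLe hle).toEquiv, hP, syl_ok.2.2.2]
    norm_num
  haveI : Fact (Nat.Prime 3) := ⟨Nat.prime_three⟩
  refine bad_of_pgroup Nat.prime_three (by norm_num) (IsPGroup.of_card hcard) fun hc => ?_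
  obtain ⟨g, hg⟩ := IsCyclic.exists_ofOrder_eq_natCard (α := P.subgroupOf Spor.M11)
  have h3 : g ^ 3 = 1 := by
    refine Subtype.ext (Subtype.ext ?_)
    exact hcube _ g.2
  have := Nat.le_of_dvd (by norm_num) (orderOf_dvd_of_pow_eq_one h3)
  rw [hg, hcard] at this
  norm_num at this

theorem M11_le_M12 : Spor.M11 ≤ Spor.M12 := inf_le_left

theorem bad_M12 : Bad Spor.M12 :=
  bad_M11.of_injective (Subgroup.inclusion M11_le_M12) (Subgroup.inclusion_injective M11_le_M12)

theorem not_comm_M22 : ¬ IsMulCommutative Spor.M22 := by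
  intro h
  haveI := isSimple_M22
  letI : CommGroup Spor.M22 := { (inferInstance : Group Spor.M22) with mul_comm := fun a b => h.is_comm.comm a b }
  have := IsSimpleGroup.prime_card (α := Spor.M22)
  rw [card_M22] at this
  exact absurd this (by norm_num)

theorem bad_M22 : Bad Spor.M22 := by
  haveI := isSimple_M22
  refine bad_of_multiplier (perfect_of_simple not_comm_M22) (n := 12) Nat.prime_three (by norm_num) (by norm_num) ?_
  rw [M22_eq]
  exact M22Mult.multiplier

theorem M22_le_M23 : Spor.M22 ≤ Spor.M23 := inf_le_left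

theorem M23_le_M24 : Spor.M23 ≤ M24 := inf_le_left

theorem bad_M23 : Bad Spor.M23 :=
  bad_M22.of_injective (Subgroup.inclusion M22_le_M23) (Subgroup.inclusion_injective M22_le_M23)

theorem bad_M24 : Bad M24 :=
  bad_M23.of_injective (Subgroup.inclusion M23_le_M24) (Subgroup.inclusion_injective M23_le_M24)

end Cfsg.Lib.CyclicOdd
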