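import Cfsg.Agent.CyclicOdd.Base
import Cfsg.Agent.S0102
import Cfsg.Prelude.Def_KGroupFacts
import Cfsg.Prelude.Def_SporadicB

/-!
Tools for finding a non-cyclic odd Sylow subgroup in a sporadic group.
-/

set_option autoImplicit false
set_option linter.style.haveILetI false

namespace Cfsg.Lib.CyclicOdd

universe u v w

variable {G : Type u} [Group G] {H : Type v} [Group H]

/-- A non-cyclic `p`-subgroup for an odd prime. -/
theorem bad_of_pgroup [Finite G] {p : ℕ} (hp : p.Prime) (hp2 : p ≠ 2) {K : Subgroup G} (hK : IsPGroup p K)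
    (h : ¬ IsCyclic K) : Bad G := by
  haveI := Fact.mk hp
  obtain ⟨P, hP⟩ := hK.exists_le_sylow
  refine ⟨p, hp, hp2, P, fun hc => h ?_⟩
  haveI := hc
  exact isCyclic_of_injective (Subgroup.inclusion hP) (Subgroup.inclusion_injective hP)

/-- A commuting pair with the second element outside the subgroup of the first. -/
theorem bad_of_not_mem [Finite G] {p : ℕ} (hp : p.Prime) (hp2 : p ≠ 2) {x y : G} (hxy : Commute x y)
    (hx : x ^ p = 1) (hy : y ^ p = 1) (hx1 : x ≠ 1) (hyx : y ∉ Subgroup.zpowers x) : Bad G :=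
  bad_of_pair hp hp2 hxy hx hy hx1 fun _ _ e => hyx (e ▸ Subgroup.npow_mem_zpowers x _)

/-- A commuting pair generating a group larger than the prime. -/
theorem bad_of_pair_card [Finite G] {p : ℕ} (hp : p.Prime) (hp2 : p ≠ 2) {x y : G} (hxy : Commute x y)
    (hx : x ^ p = 1) (hy : y ^ p = 1) (hcard : p < Nat.card (Subgroup.closure ({x, y} : Set G))) : Bad G := by
  refine bad_of_not_mem hp hp2 hxy hx hy ?_ ?_
  · rintro rfl
    have hle : Subgroup.closure ({1, y} : Set G) ≤ Subgroup.zpowers y := by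
      rw [Subgroup.closure_le]
      rintro _ (rfl | rfl)
      · exact one_mem _
      · exact Subgroup.mem_zpowers _
    have := (Subgroup.card_le_of_le hle).trans_eq (Nat.card_zpowers y)
    have h2 := Nat.le_of_dvd hp.pos (orderOf_dvd_of_pow_eq_one hy)
    omega
  · intro hyx
    have hle : Subgroup.closure ({x, y} : Set G) ≤ Subgroup.zpowers x := by
      rw [Subgroup.closure_le]
      rintro _ (rfl | rfl)
      · exact Subgroup.mem_zpowers _
      · exact hyx
    have := (Subgroup.card_le_of_le hle).trans_eq (Nat.card_zpowers x)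
    have h2 := Nat.le_of_dvd hp.pos (orderOf_dvd_of_pow_eq_one hx)
    omega

/-- Commuting elements of odd prime order, one inverted and the other fixed by some element. -/
theorem bad_of_inverted [Finite G] {p : ℕ} (hp : p.Prime) (hp2 : p ≠ 2) {a x y : G} (hxy : Commute x y)
    (hx : x ^ p = 1) (hy : y ^ p = 1) (hx1 : x ≠ 1) (hy1 : y ≠ 1) (hax : a * x * a⁻¹ = x⁻¹)
    (hay : Commute a y) : Bad G := by
  refine bad_of_not_mem hp hp2 hxy hx hy hx1 fun hyx => hy1 ?_
  obtain ⟨k, hk⟩ := Subgroup.mem_zpowers_iff.mp hyx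
  have h1 : a * y * a⁻¹ = y⁻¹ := by rw [← hk, ← conj_zpow, hax, inv_zpow]
  rw [hay.eq, mul_inv_cancel_right] at h1
  have h2 : y ^ 2 = 1 := by rw [pow_two, ← inv_eq_iff_mul_eq_one]; exact h1.symm
  have hc : Nat.gcd p 2 = 1 := (Nat.coprime_primes hp Nat.prime_two).mpr hp2
  have := pow_gcd_eq_one.mpr ⟨hy, h2⟩
  rwa [hc, pow_one] at this

/-- Non-cyclic odd Sylow subgroups survive a homomorphism with kernel of order a power of two. -/
theorem Bad.of_ker_two [Finite G] (f : H →* G) {k : ℕ} (hk : Nat.card f.ker = 2 ^ k) (h : Bad H) : Bad G := by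
  obtain ⟨p, hp, hp2, P, hP⟩ := h
  haveI := Fact.mk hp
  refine bad_of_pgroup hp hp2 (P.isPGroup'.map f) fun hc => hP ?_
  haveI := hc
  refine isCyclic_of_injective (f.subgroupMap (P : Subgroup H)) ((injective_iff_map_eq_one _).mpr ?_)
  intro x hx
  have hxk : (x : H) ∈ f.ker := congrArg Subtype.val hx
  obtain ⟨j, hj⟩ := P.isPGroup' x
  have h2 : (⟨(x : H), hxk⟩ : f.ker) ^ (2 ^ k) = 1 := hk ▸ pow_card_eq_one'
  have h2' : x ^ (2 ^ k) = 1 := Subtype.ext (congrArg Subtype.val h2 : _)
  have hc : Nat.gcd (p ^ j) (2 ^ k) = 1 := ((Nat.coprime_primes hp Nat.prime_two).mpr hp2).pow _ _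
  have := pow_gcd_eq_one.mpr ⟨hj, h2'⟩
  rwa [hc, pow_one] at this

/-- A perfect group with a multiplier of order divisible by an odd prime. -/
theorem bad_of_multiplier {G : Type u} [Group G] [Finite G] (hG : commutator G = ⊤) {n p : ℕ} [NeZero n]
    (hp : p.Prime) (hp2 : p ≠ 2) (hdvd : p ∣ n) (h : Cfsg.HasCyclicSchurMultiplier G n) : Bad G := by
  obtain ⟨⟨Γ, i1, i2, σ, ⟨hσ, hz, hd⟩, ⟨e⟩⟩, -⟩ := h
  by_contra hbad
  haveI := Fact.mk hp
  have hcard : Nat.card σ.ker = n := by
    rw [Nat.card_congr e.toEquiv, Nat.card_congr Multiplicative.toAdd, Nat.card_zmod]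
  have hperf : commutator Γ = ⊤ := by
    refine eq_top_iff.mpr fun g _ => ?_
    have hmap : (commutator Γ).map σ = ⊤ := by
      rw [commutator_def, Subgroup.map_commutator, Subgroup.map_top_of_surjective σ hσ, ← commutator_def, hG]
    obtain ⟨c, hc, hcg⟩ := (hmap.ge (Subgroup.mem_top (σ g)) : σ g ∈ (commutator Γ).map σ)
    have hk : c⁻¹ * g ∈ σ.ker := by rw [MonoidHom.mem_ker, map_mul, map_inv, hcg, inv_mul_cancel]
    have := mul_mem hc (hd hk)
    rwa [mul_inv_cancel_left] at this
  exact Cfsg.Agent.S0102.result hG (fun P => by_contra fun hP => hbad ⟨p, hp, hp2, P, hP⟩) σ hσ hz hperf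
    (hcard ▸ hdvd)

/-- A double cover of a group with a non-cyclic odd Sylow subgroup has one too. -/
theorem bad_of_double_cover [Finite H] {K : Type w} [Group K] (h : Cfsg.IsNonsplitDoubleCover H K) (hK : Bad K) :
    Bad H := by
  obtain ⟨-, ⟨e⟩, -⟩ := h
  exact hK.of_surjective (e.toMonoidHom.comp (QuotientGroup.mk' (Subgroup.center H)))
    (e.surjective.comp (QuotientGroup.mk'_surjective _))

/-- A simple non-abelian group is perfect. -/
theorem perfect_of_simple {G : Type u} [Group G] [IsSimpleGroup G] (h : ¬ IsMulCommutative G) :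
    commutator G = ⊤ := by
  rcases (inferInstance : (commutator G).Normal).eq_bot_or_eq_top with h1 | h1
  · refine absurd ⟨⟨fun a b => ?_⟩⟩ h
    have := Subgroup.commutator_mem_commutator (Subgroup.mem_top a) (Subgroup.mem_top b)
    rw [← commutator_def, h1, Subgroup.mem_bot] at this
    exact commutatorElement_eq_one_iff_mul_comm.mp this
  · exact h1

end Cfsg.Lib.CyclicOdd
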